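import Groth.Agent.DRingLib.Complex
import Mathlib.RingTheory.Filtration
import Mathlib.Algebra.Homology.DerivedCategory.Linear

/-!
# Maps from a bounded above complex of projectives to a shifted module, as classes of cocycles
-/

set_option autoImplicit false
set_option linter.style.haveILetI false

universe u

open CategoryTheory Limits Pretriangulated
attribute [local instance] HasDerivedCategory.standard

noncomputable section

namespace Groth.Agent.ExtCocycle

variable {A : Type u} [CommRing A]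

/-- A module in a single degree. -/
abbrev sgl (j : ℤ) : ModuleCat.{u} A ⥤ DRing.Cx A := HomologicalComplex.single (ModuleCat.{u} A) (ComplexShape.up ℤ) j

/-- `M[i]` is the module `M` in degree `j` when `i + j = 0`. -/
def θ (i j : ℤ) (h : i + j = 0) :
    DerivedCategory.singleFunctor (ModuleCat.{u} A) 0 ⋙ shiftFunctor (Dual.D A) i ≅
      sgl j ⋙ DerivedCategory.Q :=
  Functor.isoWhiskerRight (DerivedCategory.singleFunctorIsoCompQ (ModuleCat.{u} A) 0) _ ≪≫
    Functor.associator _ _ _ ≪≫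
    Functor.isoWhiskerLeft _ (DerivedCategory.Q.commShiftIso i).symm ≪≫
    (Functor.associator _ _ _).symm ≪≫
    Functor.isoWhiskerRight ((CochainComplex.singleFunctors (ModuleCat.{u} A)).shiftIso i j 0 h) _

variable (E : DRing.Cx A) {K : Dual.D A} (e : DRing.toD E ≅ K) (i j : ℤ) (h : i + j = 0)

/-- The cocycle condition. -/
def IsCocycle {M : ModuleCat.{u} A} (φ : E.X j ⟶ M) : Prop :=
  ∀ p : ℤ, (ComplexShape.up ℤ).Rel p j → E.d p j ≫ φ = 0

theorem isCocycle_of {M : ModuleCat.{u} A} (φ : E.X j ⟶ M) (p : ℤ) (hp : p + 1 = j)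
    (hφ : E.d p j ≫ φ = 0) : IsCocycle E j φ := by
  intro q hq
  obtain rfl : q = p := by simp only [ComplexShape.up_Rel] at hq; omega
  exact hφ

/-- The class of a cocycle. -/
def cls {M : ModuleCat.{u} A} (φ : E.X j ⟶ M) (hφ : IsCocycle E j φ) : K ⟶ (Dual.inD A M)⟦i⟧ :=
  e.inv ≫ DerivedCategory.Q.map (HomologicalComplex.mkHomToSingle φ hφ) ≫ (θ i j h).inv.app M

theorem cls_congr {M : ModuleCat.{u} A} {φ φ' : E.X j ⟶ M} (hφ : IsCocycle E j φ)
    (hφ' : IsCocycle E j φ') (he : φ = φ') : cls E e i j h φ hφ = cls E e i j h φ' hφ' := by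
  subst he; rfl

theorem cls_comp {M N : ModuleCat.{u} A} (φ : E.X j ⟶ M) (hφ : IsCocycle E j φ) (g : M ⟶ N)
    (hφg : IsCocycle E j (φ ≫ g)) :
    cls E e i j h φ hφ ≫ ((DerivedCategory.singleFunctor (ModuleCat.{u} A) 0).map g)⟦i⟧' =
      cls E e i j h (φ ≫ g) hφg := by
  have n := (θ i j h).inv.naturality g
  simp only [Functor.comp_map] at n
  have h1 : HomologicalComplex.mkHomToSingle φ hφ ≫ (sgl j).map g =
      HomologicalComplex.mkHomToSingle (φ ≫ g) hφg := by
    apply HomologicalComplex.to_single_hom_ext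
    simp [HomologicalComplex.single_map_f_self]
  simp only [cls, Category.assoc]
  rw [← h1, Functor.map_comp, Category.assoc]
  exact congrArg (fun t => e.inv ≫ DerivedCategory.Q.map (HomologicalComplex.mkHomToSingle φ hφ) ≫ t) n.symm

theorem cls_smul {M : ModuleCat.{u} A} (φ : E.X j ⟶ M) (hφ : IsCocycle E j φ) (x : A)
    (hx : IsCocycle E j (x • φ)) :
    cls E e i j h (x • φ) hx = x • cls E e i j h φ hφ := by
  have h1 : HomologicalComplex.mkHomToSingle (x • φ) hx = x • HomologicalComplex.mkHomToSingle φ hφ := by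
    apply HomologicalComplex.to_single_hom_ext
    simp [HomologicalComplex.smul_f_apply]
  simp only [cls]
  rw [h1, Functor.map_smul, Linear.smul_comp, Linear.comp_smul]

theorem cls_add {M : ModuleCat.{u} A} (φ ψ : E.X j ⟶ M) (hφ : IsCocycle E j φ) (hψ : IsCocycle E j ψ)
    (hx : IsCocycle E j (φ + ψ)) :
    cls E e i j h (φ + ψ) hx = cls E e i j h φ hφ + cls E e i j h ψ hψ := by
  have h1 : HomologicalComplex.mkHomToSingle (φ + ψ) hx =
      HomologicalComplex.mkHomToSingle φ hφ + HomologicalComplex.mkHomToSingle ψ hψ := by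
    apply HomologicalComplex.to_single_hom_ext
    simp [Preadditive.add_comp]
  simp only [cls]
  rw [h1, Functor.map_add, Preadditive.add_comp, Preadditive.comp_add]

variable [E.IsKProjective]

theorem exists_cls {M : ModuleCat.{u} A} (f : K ⟶ (Dual.inD A M)⟦i⟧) :
    ∃ (φ : E.X j ⟶ M) (hφ : IsCocycle E j φ), cls E e i j h φ hφ = f := by
  obtain ⟨a, ha⟩ := DRingLib.Q_map_surjective E ((sgl j).obj M) (e.hom ≫ f ≫ (θ i j h).hom.app M)
  refine ⟨a.f j ≫ (HomologicalComplex.singleObjXSelf (ComplexShape.up ℤ) j M).hom, fun p hp => ?_, ?_⟩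
  · rw [← Category.assoc, ← a.comm p j, HomologicalComplex.single_obj_d, comp_zero, zero_comp]
  · have h1 : HomologicalComplex.mkHomToSingle
        (a.f j ≫ (HomologicalComplex.singleObjXSelf (ComplexShape.up ℤ) j M).hom)
        (fun p hp => by rw [← Category.assoc, ← a.comm p j, HomologicalComplex.single_obj_d, comp_zero,
          zero_comp]) = a := by
      apply HomologicalComplex.to_single_hom_ext
      simp
    simp only [cls]
    rw [h1, ha]
    simp
    exact (congrArg (f ≫ ·) ((θ i j h).hom_inv_id_app M)).trans (Category.comp_id f)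

theorem exists_of_cls_eq_zero {M : ModuleCat.{u} A} (φ : E.X j ⟶ M) (hφ : IsCocycle E j φ)
    (q : ℤ) (hq : j + 1 = q) (h0 : cls E e i j h φ hφ = 0) :
    ∃ ψ : E.X q ⟶ M, E.d j q ≫ ψ = φ := by
  have hQ : DerivedCategory.Q.map (HomologicalComplex.mkHomToSingle φ hφ) = 0 := by
    rw [← cancel_mono ((θ i j h).inv.app M), zero_comp, ← cancel_epi e.inv, comp_zero]
    exact h0
  obtain ⟨H⟩ := DRingLib.homotopic_zero E _ hQ
  refine ⟨H.hom q j ≫ (HomologicalComplex.singleObjXSelf (ComplexShape.up ℤ) j M).hom, ?_⟩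
  have hc := H.comm j
  rw [HomologicalComplex.zero_f, add_zero, dNext_eq H.hom (show (ComplexShape.up ℤ).Rel j q from hq),
    prevD_eq H.hom (show (ComplexShape.up ℤ).Rel (j - 1) j from by simp), HomologicalComplex.single_obj_d,
    comp_zero, add_zero, HomologicalComplex.mkHomToSingle_f] at hc
  rw [← Category.assoc, ← hc]
  simp

omit [E.IsKProjective] in
theorem cls_eq_zero {M : ModuleCat.{u} A} (φ : E.X j ⟶ M) (hφ : IsCocycle E j φ)
    (q : ℤ) (hq : j + 1 = q) (ψ : E.X q ⟶ M) (hψ : E.d j q ≫ ψ = φ) :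
    cls E e i j h φ hφ = 0 := by
  classical
  let hh : ∀ a b, (ComplexShape.up ℤ).Rel b a → (E.X a ⟶ ((sgl j).obj M).X b) := fun a b hab =>
    if hb : b = j then (E.XIsoOfEq (show a = q by simp only [ComplexShape.up_Rel] at hab; omega)).hom ≫ ψ ≫
      (HomologicalComplex.singleObjXIsoOfEq (ComplexShape.up ℤ) j M b hb).inv else 0
  have hm : Homotopy.nullHomotopicMap' hh = HomologicalComplex.mkHomToSingle φ hφ := by
    apply HomologicalComplex.to_single_hom_ext
    rw [Homotopy.nullHomotopicMap'_f (show (ComplexShape.up ℤ).Rel (j - 1) j by simp)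
      (show (ComplexShape.up ℤ).Rel j q from hq) hh, HomologicalComplex.single_obj_d, comp_zero, add_zero,
      HomologicalComplex.mkHomToSingle_f]
    simp only [hh, dif_pos, HomologicalComplex.XIsoOfEq_rfl, Iso.refl_hom, Category.id_comp]
    rw [← hψ, Category.assoc]
    rfl
  have hQ : DerivedCategory.Q.map (HomologicalComplex.mkHomToSingle φ hφ) = 0 := by
    rw [← hm, DerivedCategory.Q_map_eq_of_homotopy (ModuleCat.{u} A) (Homotopy.nullHomotopy' hh), Functor.map_zero]
  simp only [cls, hQ]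
  erw [zero_comp, comp_zero]

end Groth.Agent.ExtCocycle

namespace Groth.Agent.ExtCocycle

variable {A : Type u} [CommRing A] (E : DRing.Cx A) {K : Dual.D A} (e : DRing.toD E ≅ K)
  [E.IsKProjective] (I : Ideal A)

include e in
/-- If the group of maps to `M[i]` is `I`-power torsion then cocycles with values in a high `I^m M` are
coboundaries. -/
theorem exists_pow_coboundary [IsNoetherianRing A] (i j q : ℤ) (h : i + j = 0) (hq : j + 1 = q)
    (M : ModuleCat.{u} A) [Module.Finite A M] [Module.Finite A (E.X j)] [Module.Free A (E.X j)]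
    (htors : ∀ f : K ⟶ (Dual.inD A M)⟦i⟧, ∃ n : ℕ, ∀ x ∈ I ^ n, x • f = 0) :
    ∃ m : ℕ, ∀ φ : E.X j ⟶ M, IsCocycle E j φ → (∀ v, φ.hom v ∈ (I ^ m • ⊤ : Submodule A M)) →
      ∃ ψ : E.X q ⟶ M, E.d j q ≫ ψ = φ := by
  classical
  let B : Submodule A ((E.X j : Type u) →ₗ[A] M) := LinearMap.range (LinearMap.lcomp A M (E.d j q).hom)
  let Z : Submodule A ((E.X j : Type u) →ₗ[A] M) :=
    LinearMap.ker (LinearMap.lcomp A M (E.d (j - 1) j).hom)
  have hB : ∀ l, l ∈ B → ∃ ψ : E.X q ⟶ M, E.d j q ≫ ψ = ModuleCat.ofHom l := by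
    rintro l ⟨l', rfl⟩
    exact ⟨ModuleCat.ofHom l', rfl⟩
  have hcoc : ∀ l ∈ Z, IsCocycle E j (ModuleCat.ofHom l) := fun l hl =>
    isCocycle_of E j _ (j - 1) (by omega) (ModuleCat.hom_ext hl)
  obtain ⟨s, hs⟩ := (IsNoetherian.noetherian Z : Z.FG)
  have hsZ : ∀ l ∈ s, l ∈ Z := fun l hl => hs ▸ Submodule.subset_span hl
  choose n hn using fun l : s => htors (cls E e i j h _ (hcoc _ (hsZ _ l.2)))
  let N := ∑ l : s, n l
  have hNB : I ^ N • Z ≤ B := by
    rw [← hs, Submodule.smul_le]
    intro x hx l hl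
    induction hl using Submodule.span_induction with
    | mem l hl =>
      have hxl : IsCocycle E j (x • ModuleCat.ofHom l) := hcoc _ (Z.smul_mem x (hsZ l hl))
      have h0 := cls_smul E e i j h (ModuleCat.ofHom l) (hcoc _ (hsZ l hl)) x hxl
      rw [hn ⟨l, hl⟩ x (Ideal.pow_le_pow_right
        (Finset.single_le_sum (fun _ _ => Nat.zero_le _) (Finset.mem_univ _)) hx)] at h0
      obtain ⟨ψ, hψ⟩ := exists_of_cls_eq_zero E e i j h _ hxl q hq h0
      exact ⟨ψ.hom, congrArg ModuleCat.Hom.hom hψ⟩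
    | zero => rw [smul_zero]; exact B.zero_mem
    | add a b _ _ ha hb => rw [smul_add]; exact B.add_mem ha hb
    | smul c a _ ha => rw [smul_comm]; exact B.smul_mem c ha
  obtain ⟨k, hk⟩ := Ideal.exists_pow_inf_eq_pow_smul I Z
  refine ⟨k + N, fun φ hφ hval => hB φ.hom ?_⟩
  have hφZ : φ.hom ∈ Z := congrArg ModuleCat.Hom.hom (hφ (j - 1) (by simp))
  let b := Module.Free.chooseBasis A (E.X j)
  have htop : φ.hom ∈ (I ^ (k + N) • ⊤ : Submodule A ((E.X j : Type u) →ₗ[A] M)) := by
    have : φ.hom = ∑ t, (b.coord t).smulRight (φ.hom (b t)) := b.ext fun t => by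
      simp [Finsupp.single_apply, b.repr_self]
    rw [this]
    refine Submodule.sum_mem _ fun t _ => ?_
    have h1 := Submodule.mem_map_of_mem (f := LinearMap.smulRightₗ (b.coord t)) (hval (b t))
    rw [Submodule.map_smul''] at h1
    exact Submodule.smul_mono le_rfl le_top h1
  have h2 : φ.hom ∈ I ^ (k + N - k) • ((I ^ k • ⊤ : Submodule A _) ⊓ Z) := by
    rw [← hk (k + N) (Nat.le_add_right _ _)]
    exact ⟨htop, hφZ⟩
  rw [Nat.add_sub_cancel_left] at h2
  exact hNB (Submodule.smul_mono le_rfl inf_le_right h2)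

end Groth.Agent.ExtCocycle
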